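import Groth.Agent.ASt.SpChart
import Groth.Agent.ASt.PropsAff
import Groth.Agent.ASp.AffMor
import Groth.Agent.ASt.QcMor
import Groth.Agent.ASt.StkAlg
import Groth.Prelude.Def_StMod2
/-!
Morphisms representable by affine morphisms to an algebraic space are cohomologically affine.
-/

set_option autoImplicit false
set_option backward.isDefEq.respectTransparency false
set_option backward.isDefEq.respectTransparency.types false
set_option linter.style.haveILetI false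
set_option linter.unusedSectionVars false

universe u

open CategoryTheory CategoryTheory.Limits AlgebraicGeometry Opposite

namespace Groth.Agent.CohAffLib

open Groth.Agent.ASt

variable {S : Scheme.{u}} {𝒳 : AlgSt.Cat S} [FibCat.IsFibGrpd 𝒳.p] {M : AlgSp.Sp S}

theorem ofSp_hom_ext {F : AlgSp.Sp S} {a b : (AlgSt.ofSp F).obj} {f g : a ⟶ b} (h : f.hom = g.hom) : f = g :=
  (AlgSt.ofSp F).p.map_injective h

/-- Over an affine scheme étale over the target the morphism has a universal object with affine scheme. -/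
theorem exists_universal {π : 𝒳 ⥤ᵇ AlgSt.ofSp M} (hπ : AlgSt.RepByAlgSpWith AlgSp.IsAffineMor π)
    (E : AlgSp.EtOver M) (hE : IsAffine E.obj.left.left) :
    ∃ (x₀ : 𝒳.obj) (α₀ : π.obj x₀ ⟶ StMod.etaOf E), IsAffine (StMod.sch 𝒳 x₀) ∧
      ∀ (ξ : 𝒳.obj) (α : π.obj ξ ⟶ StMod.etaOf E), ∃! φ : ξ ⟶ x₀, π.map φ ≫ α₀ = α := by
  obtain ⟨hfaith, hfib⟩ := repByAlgSpWith_iff.1 hπ
  haveI := hfaith
  let U := E.obj.left
  let y : FibCat.overCat U ⥤ᵇ AlgSt.ofSp M := spChart E.obj.hom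
  haveI : FibCat.IsFibGrpd (FibCat.fp y π).p := isFibGrpd_fp
  obtain ⟨hs, -, haff⟩ := hfib U y
  obtain ⟨W, i, fst, sq, hW⟩ := haff hE (𝟙 ((AlgSp.yon S).obj U))
  haveI : IsIso fst := sq.isIso_fst_of_isIso
  have hbij : ∀ T : Over S, Function.Bijective (fun w : T ⟶ W => fst.hom.app (op T) ⟨w⟩) := fun T => by
    haveI : IsIso fst.hom := inferInstanceAs (IsIso ((sheafToPresheaf _ _).map fst))
    have h := ConcreteCategory.bijective_of_isIso (fst.hom.app (op T))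
    exact h.comp (Equiv.ulift.symm.bijective)
  let c₀ : ClType (FibCat.fp y π) W := fst.hom.app (op W) ⟨𝟙 W⟩
  have hnat : ∀ (T : Over S) (w : T ⟶ W), fst.hom.app (op T) ⟨w⟩ = clMap w c₀ := fun T w => by
    have h := NatTrans.naturality_apply fst.hom w.op (⟨𝟙 W⟩ : ULift (W ⟶ W))
    refine Eq.trans ?_ h
    exact congrArg (fun v => fst.hom.app (op T) (ULift.up v)) (Category.comp_id w).symm
  obtain ⟨k₀, x₀, hx₀, φ₀, hφ₀, hc₀⟩ := fpEl_exists c₀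
  haveI : IsIso φ₀ := isIso_of_vert φ₀ hφ₀
  have hsec : ∀ {T : Over S} (k : T ⟶ U), M.obj.map k.op (StMod.etaOf E).sec = (y.obj (ov k)).sec := fun {T} k => by
    have h := NatTrans.naturality_apply E.obj.hom.hom k.op (⟨𝟙 U⟩ : ULift (U ⟶ U))
    refine h.symm.trans ?_
    exact congrArg (fun v => E.obj.hom.hom.app (op T) (ULift.up v)) (Category.comp_id k)
  let α₀ : π.obj x₀ ⟶ StMod.etaOf E := inv φ₀ ≫ (⟨k₀, hsec k₀⟩ : y.obj (ov k₀) ⟶ StMod.etaOf E)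
  have hφ₀' : φ₀.hom = eqToHom (hx₀.symm.trans (π.w_obj x₀).symm) := hφ₀
  have hinv : (inv φ₀).hom = eqToHom ((π.w_obj x₀).trans hx₀) := by
    have h : φ₀.hom ≫ (inv φ₀).hom = 𝟙 _ := congrArg Stk.EltObj.Hom.hom (IsIso.hom_inv_id φ₀)
    rw [hφ₀', eqToHom_comp_iff, Category.comp_id] at h
    exact h
  have hα₀ : α₀.hom = eqToHom ((π.w_obj x₀).trans hx₀) ≫ k₀ := by
    show (inv φ₀).hom ≫ k₀ = _
    rw [hinv]
  refine ⟨x₀, α₀, ?_, fun ξ α => ?_⟩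
  · show IsAffine (𝒳.p.obj x₀).left
    rw [hx₀]
    exact hW
  let T := 𝒳.p.obj ξ
  let k : T ⟶ U := eqToHom (π.w_obj ξ).symm ≫ α.hom
  let φ : y.obj (ov k) ⟶ π.obj ξ := ⟨eqToHom (π.w_obj ξ).symm, by
    rw [← hsec k]
    show _ = M.obj.map (eqToHom _ ≫ α.hom).op _
    rw [op_comp, Functor.map_comp]
    show _ = M.obj.map _ (M.obj.map α.hom.op (StMod.etaOf E).sec)
    rw [α.map_sec]⟩
  let c : ClType (FibCat.fp y π) T := fpEl k ξ rfl φ rfl
  obtain ⟨w, hw⟩ := (hbij T).2 c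
  have key : ∀ (φ' : ξ ⟶ x₀), π.map φ' ≫ α₀ = α → clMap (𝒳.p.map φ' ≫ eqToHom hx₀) c₀ = c := fun φ' h => by
    have hb : (𝒳.p.map φ' ≫ eqToHom hx₀) ≫ k₀ = k := by
      have h' : (π.map φ').hom ≫ α₀.hom = α.hom := congrArg Stk.EltObj.Hom.hom h
      have hm : (π.map φ').hom = eqToHom (π.w_obj ξ) ≫ 𝒳.p.map φ' ≫ eqToHom (π.w_obj x₀).symm := map_w π φ'
      show _ = eqToHom _ ≫ α.hom
      rw [← h', hm, hα₀]
      simp
    let m : fpObj k ξ rfl φ rfl ⟶ fpObj k₀ x₀ hx₀ φ₀ hφ₀ := fpHomMk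
      (Over.homMk (𝒳.p.map φ' ≫ eqToHom hx₀) hb : ov k ⟶ ov k₀) φ' (ofSp_hom_ext (by
        have hm : (π.map φ').hom = eqToHom (π.w_obj ξ) ≫ 𝒳.p.map φ' ≫ eqToHom (π.w_obj x₀).symm := map_w π φ'
        show (𝒳.p.map φ' ≫ eqToHom hx₀) ≫ φ₀.hom = eqToHom (π.w_obj ξ).symm ≫ (π.map φ').hom
        rw [hm, hφ₀']
        simp))
    rw [hc₀]
    exact clMap_cl _ m rfl rfl (by simp [m, fpHomMk]; rfl)
  have hw' : clMap w c₀ = c := (hnat T w).symm.trans hw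
  rw [hc₀] at hw'
  obtain ⟨a, ha⟩ := cl_eq_iff.1 hw'.symm
  let m := a ≫ pullHom (fpObj k₀ x₀ hx₀ φ₀ hφ₀) rfl w
  have hm : m.hom.fst.left = w := by
    show (FibCat.fp y π).p.map m = w
    rw [Functor.map_comp, ha, map_pullHom]
    simp
  refine ⟨m.hom.snd, ?_, fun φ' h => ?_⟩
  · refine ofSp_hom_ext ?_
    have h1 : (π.map m.hom.snd).hom = eqToHom (π.w_obj ξ) ≫ 𝒳.p.map m.hom.snd ≫ eqToHom (π.w_obj x₀).symm :=
      map_w π m.hom.snd
    have h2 : 𝒳.p.map m.hom.snd = eqToHom rfl ≫ m.hom.fst.left ≫ eqToHom hx₀.symm := by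
      rw [fp_map_snd]
      rfl
    have h3 : w ≫ k₀ = k := hm ▸ Over.w m.hom.fst
    show (π.map m.hom.snd).hom ≫ α₀.hom = α.hom
    rw [h1, hα₀, h2, hm]
    simp [h3, k]
  · have h4 := key φ' h
    have h5 : 𝒳.p.map φ' ≫ eqToHom hx₀ = w := (hbij T).1 (by
      beta_reduce
      rw [hnat, hnat, h4, (hnat T w).symm.trans hw])
    apply π.toFunctor.map_injective
    refine ofSp_hom_ext ?_
    have h1 : ∀ ψ : ξ ⟶ x₀, (π.map ψ).hom = eqToHom (π.w_obj ξ) ≫ 𝒳.p.map ψ ≫ eqToHom (π.w_obj x₀).symm :=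
      fun ψ => map_w π ψ
    have h2 : 𝒳.p.map m.hom.snd = eqToHom rfl ≫ m.hom.fst.left ≫ eqToHom hx₀.symm := by
      rw [fp_map_snd]
      rfl
    show (π.map φ').hom = (π.map m.hom.snd).hom
    rw [h1, h1, h2, hm, ← h5]
    simp

/-- Representable by affine morphisms implies cohomologically affine. -/
theorem isCohAffine {π : 𝒳 ⥤ᵇ AlgSt.ofSp M} (hπ : AlgSt.RepByAlgSpWith AlgSp.IsAffineMor π) :
    StMod.IsCohAffine π := by
  intro F G u hu E hE s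
  obtain ⟨x₀, α₀, hx, huni⟩ := exists_universal hπ E hE
  obtain ⟨t, ht⟩ := hu x₀ hx (s.1 x₀ α₀)
  choose φ hφ using fun ξ α => (huni ξ α).exists
  refine ⟨⟨fun ξ α => F.obj.mapTop (φ ξ α) t, fun ξ' ξ ψ α => ?_⟩, StMod.Mod.RelSect.ext _ _ _ fun ξ α => ?_⟩
  · show F.obj.mapTop ψ (F.obj.mapTop (φ ξ α) t) = F.obj.mapTop (φ ξ' (π.map ψ ≫ α)) t
    rw [← StMod.Mod.mapTop_comp, (huni ξ' (π.map ψ ≫ α)).unique (hφ ξ' _)
      (show π.map (ψ ≫ φ ξ α) ≫ α₀ = π.map ψ ≫ α by rw [Functor.map_comp, Category.assoc, hφ])]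
  · rw [StMod.Mod.relSectMap_val]
    show (u.hom.app ξ).app ⊤ (F.obj.mapTop (φ ξ α) t) = s.1 ξ α
    rw [← StMod.Mod.mapTop_app, ht, s.2 (φ ξ α) α₀, hφ]

/-- Representable by affine morphisms implies quasi-compact. -/
theorem isQuasiCompactMor (hX : AlgSt.IsAlgStack Scheme.fppfPrecoverage 𝒳) (hM : AlgSp.IsAlgSpace M)
    {π : 𝒳 ⥤ᵇ AlgSt.ofSp M} (hπ : AlgSt.RepByAlgSpWith AlgSp.IsAffineMor π) :
    AlgSt.IsQuasiCompactMor Scheme.fppfPrecoverage π := by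
  have hr : AlgSt.RepByAlgSp (AlgSt.ofSp M) := ⟨⟨M, hM⟩, BasedFunctor.id _, isEquivOver_id⟩
  have h' : AlgSt.RepByAlgSpWith AlgSp.IsQuasiCompactMor π :=
    repByAlgSpWith_mono (fun A B f hA hB hf => Groth.Agent.ASp.isQuasiCompactMor_of_repWith
      (Groth.Agent.ASp.repWith_mono (fun _ _ g hg => have : IsAffineHom g := hg; (inferInstance : QuasiCompact g))
        (Groth.Agent.ASp.repWith_isAffineHom_of_isAffineMor hA hB hf))) hπ
  exact (repByAlgSpWith_isQuasiCompactMor_iff hX (isDM_of_repByAlgSp hr).1 (repByAlgSp1_of_with h')).1 h'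

end Groth.Agent.CohAffLib
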